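import Groth.Prelude.Def_QuotSh
import Groth.Agent.GrpdBasic.QuotSheaf
import Groth.Agent.SourceDescent.Basic
import Mathlib

/-! Fppf quotient sheaves of equivalence relations are effective. -/

set_option autoImplicit false
universe u
open CategoryTheory CategoryTheory.Limits AlgebraicGeometry Opposite

namespace Groth.Agent.QuotShEff

variable {S : Scheme.{u}} {R U M : Over S}

/-- A covering of `M` by a single morphism which lifts along an fppf quotient map. -/
theorem exists_cover (s t : R ⟶ U) (q : U ⟶ M)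
    (h : QuotSh.IsQuotient Scheme.fppfPrecoverage s t q) :
    ∃ (V : Scheme.{u}) (f : V ⟶ M.left) (a : V ⟶ U.left),
      Flat f ∧ LocallyOfFinitePresentation f ∧ Surjective f ∧ a ≫ q.left = f := by
  obtain ⟨w, hiso⟩ := h
  have e : QuotSh.quotπ Scheme.fppfPrecoverage s t ≫ QuotSh.quotDesc Scheme.fppfPrecoverage q w =
      QuotSh.repMap Scheme.fppfPrecoverage q := coequalizer.π_desc _ _
  have : Epi (QuotSh.repMap Scheme.fppfPrecoverage q) := by
    rw [← e]
    have : Epi (QuotSh.quotπ Scheme.fppfPrecoverage s t) := coequalizer.π_epi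
    exact epi_comp _ _
  have hs : Sheaf.IsLocallySurjective (QuotSh.repMap Scheme.fppfPrecoverage q) :=
    (Sheaf.isLocallySurjective_iff_epi' _ _).2 this
  have hp := (Presheaf.isLocallySurjective_presheafToSheaf_map_iff
    (QuotSh.J Scheme.fppfPrecoverage S)
    (Functor.whiskerRight (yoneda.map q) uliftFunctor.{u + 1, u})).1 hs
  have hcov := hp.imageSieve_mem (U := M) (ULift.up (𝟙 M) : ULift.{u + 1} (M ⟶ M))
  rw [GrothendieckTopology.mem_over_iff] at hcov
  let P : MorphismProperty Scheme.{u} := @Flat ⊓ @LocallyOfFinitePresentation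
  have : P.IsMultiplicative :=
    { id_mem := fun _ => ⟨inferInstance, inferInstance⟩
      comp_mem := fun f g ⟨_, _⟩ ⟨_, _⟩ => ⟨inferInstance, inferInstance⟩ }
  have : P.IsStableUnderBaseChange := by
    refine ⟨fun {X Y Y' S} _ _ _ _ h hf => ⟨?_, ?_⟩⟩
    · exact MorphismProperty.of_isPullback h hf.1
    · exact MorphismProperty.of_isPullback h hf.2
  obtain ⟨𝒰, hle⟩ := (Scheme.mem_grothendieckTopology_iff (P := P)).1 hcov
  have hlift : ∀ i, ∃ a : 𝒰.X i ⟶ U.left, a ≫ q.left = 𝒰.f i := by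
    intro i
    obtain ⟨W, g, k, ⟨⟨a⟩, ha⟩, hk⟩ := hle _ _ ⟨i⟩
    have e2 : a ≫ q = g := (congrArg ULift.down ha).trans (Category.comp_id g)
    exact ⟨k ≫ a.left, (Category.assoc _ _ _).trans
      ((congrArg (k ≫ ·) (congrArg CommaMorphism.left e2)).trans hk.symm)⟩
  choose a ha using hlift
  refine ⟨∐ 𝒰.X, Sigma.desc 𝒰.f, Sigma.desc a,
    IsZariskiLocalAtSource.sigmaDesc (P := @Flat) fun i => (𝒰.map_prop i).1,
    IsZariskiLocalAtSource.sigmaDesc (P := @LocallyOfFinitePresentation) fun i => (𝒰.map_prop i).2,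
    ⟨fun y => ?_⟩, Sigma.hom_ext _ _ fun i => ?_⟩
  · obtain ⟨i, z, hz⟩ := 𝒰.exists_eq y
    exact ⟨Sigma.ι 𝒰.X i z, by rw [← Scheme.Hom.comp_apply, Sigma.ι_desc]; exact hz⟩
  · rw [Sigma.ι_desc_assoc, Sigma.ι_desc]
    exact ha i

variable (s t : R ⟶ U)

/-- The relation on points. -/
def relSetoid (h : EquivalenceRelation s t) (T : Over S) : Setoid (T ⟶ U) where
  r a b := ∃ r : T ⟶ R, r ≫ s = a ∧ r ≫ t = b
  iseqv :=
    ⟨fun a => ⟨a ≫ h.r, by rw [Category.assoc, h.reflexivity₁, Category.comp_id],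
        by rw [Category.assoc, h.reflexivity₂, Category.comp_id]⟩,
      fun ⟨r, h1, h2⟩ => ⟨r ≫ h.s, by rw [Category.assoc, h.symmetry₁, h2],
        by rw [Category.assoc, h.symmetry₂, h1]⟩,
      fun ⟨r, h1, h2⟩ ⟨r', h1', h2'⟩ => by
        let l := PullbackCone.IsLimit.lift h.isLimit r r' (h2.trans h1'.symm)
        refine ⟨l ≫ h.t, ?_, ?_⟩
        · rw [Category.assoc, h.transitivity₁, ← Category.assoc,
            PullbackCone.IsLimit.lift_fst, h1]
        · rw [Category.assoc, h.transitivity₂, ← Category.assoc,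
            PullbackCone.IsLimit.lift_snd, h2']⟩

/-- The presheaf quotient. -/
def preQuot (h : EquivalenceRelation s t) : (Over S)ᵒᵖ ⥤ Type (u + 1) where
  obj T := ULift.{u + 1} (Quotient (relSetoid s t h T.unop))
  map {T T'} φ := TypeCat.ofHom fun x => ULift.up (Quotient.map (fun a => φ.unop ≫ a)
    (fun a b (hab : (relSetoid s t h T.unop).r a b) => by
      obtain ⟨r, h1, h2⟩ := hab
      exact ⟨φ.unop ≫ r, by rw [Category.assoc, h1], by rw [Category.assoc, h2]⟩) x.down)
  map_id T := by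
    ext ⟨x⟩
    induction x using Quotient.inductionOn with
    | _ a => exact congrArg (Quotient.mk _) (Category.id_comp a)
  map_comp φ ψ := by
    ext ⟨x⟩
    induction x using Quotient.inductionOn with
    | _ a => exact congrArg (Quotient.mk _) (Category.assoc _ _ _)

/-- The projection to the presheaf quotient. -/
def preQuotπ (h : EquivalenceRelation s t) :
    yoneda.obj U ⋙ uliftFunctor.{u + 1, u} ⟶ preQuot s t h where
  app T := TypeCat.ofHom fun a => ULift.up (Quotient.mk _ a.down)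
  naturality T T' φ := by ext a; rfl

theorem exists_rel_of_comp_eq [IsEquivalenceRelation s t] (q : U ⟶ M)
    (hq : QuotSh.IsQuotient Scheme.fppfPrecoverage s t q) {T : Over S} (a b : T ⟶ U)
    (hab : a ≫ q = b ≫ q) : ∃ r : T ⟶ R, r ≫ s = a ∧ r ≫ t = b := by
  obtain ⟨h⟩ := IsEquivalenceRelation.nonempty_equivalenceRelation (p₁ := s) (p₂ := t)
  obtain ⟨w, hiso⟩ := hq
  let J := QuotSh.J Scheme.fppfPrecoverage S
  let F := preQuot s t h
  let π := preQuotπ s t h
  let Φ := (presheafToSheaf J (Type (u + 1))).map π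
  have hπ : Functor.whiskerRight (yoneda.map s) uliftFunctor.{u + 1, u} ≫ π =
      Functor.whiskerRight (yoneda.map t) uliftFunctor.{u + 1, u} ≫ π := by
    ext T x
    exact congrArg ULift.up (Quotient.sound (s := relSetoid s t h _) ⟨x.down, rfl, rfl⟩)
  have hΦ : QuotSh.repMap Scheme.fppfPrecoverage s ≫ Φ =
      QuotSh.repMap Scheme.fppfPrecoverage t ≫ Φ := by
    change _ ≫ (presheafToSheaf J _).map π = _ ≫ (presheafToSheaf J _).map π
    rw [← Functor.map_comp, ← Functor.map_comp, hπ]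
  let ψ := inv (QuotSh.quotDesc Scheme.fppfPrecoverage q w) ≫ coequalizer.desc Φ hΦ
  have hψ : QuotSh.repMap Scheme.fppfPrecoverage q ≫ ψ = Φ := by
    rw [show QuotSh.repMap Scheme.fppfPrecoverage q =
      QuotSh.quotπ Scheme.fppfPrecoverage s t ≫ QuotSh.quotDesc Scheme.fppfPrecoverage q w from
      (coequalizer.π_desc _ _).symm, Category.assoc, IsIso.hom_inv_id_assoc]
    exact coequalizer.π_desc _ _
  have key : ∀ c : T ⟶ U, (toSheafify J F).app (op T) (π.app (op T) (ULift.up c)) =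
      ψ.hom.app (op T) ((toSheafify J (yoneda.obj M ⋙ uliftFunctor.{u + 1, u})).app (op T)
        (ULift.up (c ≫ q))) := by
    intro c
    have e1 := congrArg (fun φ => φ.app (op T) (ULift.up c)) (toSheafify_naturality J π)
    have e2 := congrArg (fun φ => φ.app (op T) (ULift.up c)) (toSheafify_naturality J
      (Functor.whiskerRight (yoneda.map q) uliftFunctor.{u + 1, u}))
    have e3 := congrArg (fun φ => φ.hom.app (op T)
      ((toSheafify J (yoneda.obj U ⋙ uliftFunctor.{u + 1, u})).app (op T) (ULift.up c))) hψ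
    exact e1.trans (e3.symm.trans (congrArg (ψ.hom.app (op T)) e2.symm))
  have heq : (toSheafify J F).app (op T) (π.app (op T) (ULift.up a)) =
      (toSheafify J F).app (op T) (π.app (op T) (ULift.up b)) := by rw [key, key, hab]
  have hmem := Presheaf.equalizerSieve_mem J (toSheafify J F) _ _ heq
  let E := Presheaf.equalizerSieve (F := F) (π.app (op T) (ULift.up a)) (π.app (op T) (ULift.up b))
  replace hmem : E ∈ J T := hmem
  have hloc : ∀ ⦃W : Over S⦄ (f : W ⟶ T), E f → ∃ r : W ⟶ R, r ≫ s = f ≫ a ∧ r ≫ t = f ≫ b :=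
    fun W f hf => by
      have e : (Quotient.mk (relSetoid s t h W) (f ≫ a)) = Quotient.mk (relSetoid s t h W) (f ≫ b) :=
        congrArg ULift.down hf
      exact Quotient.exact e
  choose r hr1 hr2 using hloc
  have hsh : Presieve.IsSheafFor (yoneda.obj R) _ :=
    GrothendieckTopology.Subcanonical.isSheaf_of_isRepresentable (J := J) (yoneda.obj R) _ hmem
  let x : Presieve.FamilyOfElements (yoneda.obj R) E.arrows := fun W f hf => r f hf
  have hx : x.Compatible := fun W₁ W₂ W g₁ g₂ f₁ f₂ hf₁ hf₂ e =>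
    h.right_cancellation _ _
      (show (g₁ ≫ r f₁ hf₁) ≫ s = (g₂ ≫ r f₂ hf₂) ≫ s by
        rw [Category.assoc, Category.assoc, hr1, hr1, reassoc_of% e])
      (show (g₁ ≫ r f₁ hf₁) ≫ t = (g₂ ≫ r f₂ hf₂) ≫ t by
        rw [Category.assoc, Category.assoc, hr2, hr2, reassoc_of% e])
  obtain ⟨r₀, hr₀, -⟩ := hsh x hx
  have hU : ∀ (c d : T ⟶ U), (∀ ⦃W : Over S⦄ (f : W ⟶ T), E f → f ≫ c = f ≫ d) → c = d :=
    fun c d e => (GrothendieckTopology.Subcanonical.isSheaf_of_isRepresentable (J := J)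
      (yoneda.obj U) _ hmem).isSeparatedFor.ext e
  refine ⟨r₀, hU _ _ fun W f hf => ?_, hU _ _ fun W f hf => ?_⟩
  · rw [← Category.assoc, show f ≫ r₀ = r f hf from hr₀ f hf, hr1]
  · rw [← Category.assoc, show f ≫ r₀ = r f hf from hr₀ f hf, hr2]

theorem isKernelPair [IsEquivalenceRelation s t] (q : U ⟶ M)
    (hq : QuotSh.IsQuotient Scheme.fppfPrecoverage s t q) : IsKernelPair q s t := by
  obtain ⟨h⟩ := IsEquivalenceRelation.nonempty_equivalenceRelation (p₁ := s) (p₂ := t)
  have hr := fun {T : Over S} (a b : T ⟶ U) (e : a ≫ q = b ≫ q) =>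
    exists_rel_of_comp_eq s t q hq a b e
  choose r h1 h2 using @hr
  exact ⟨⟨hq.choose⟩, ⟨PullbackCone.IsLimit.mk hq.choose (fun c => r c.fst c.snd c.condition)
    (fun c => h1 c.fst c.snd c.condition) (fun c => h2 c.fst c.snd c.condition)
    (fun c m e1 e2 => h.right_cancellation _ _
      (e1.trans (h1 c.fst c.snd c.condition).symm) (e2.trans (h2 c.fst c.snd c.condition).symm))⟩⟩

end Groth.Agent.QuotShEff
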