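import Groth.Agent.QuotShEff.Basic
import Groth.Agent.FppfEpi.Basic

/-! Points with the same image in an fppf quotient are locally related. -/

set_option autoImplicit false
universe u
open CategoryTheory CategoryTheory.Limits AlgebraicGeometry Opposite

namespace Groth.Agent.QuotShEff

variable {S : Scheme.{u}} {R U M : Over S} (s t : R ⟶ U)

/-- The presheaf quotient by a relation on points. -/
def preQuotOf (rel : ∀ T : Over S, Setoid (T ⟶ U))
    (hcomp : ∀ {T T' : Over S} (φ : T' ⟶ T) (a b : T ⟶ U), (rel T).r a b → (rel T').r (φ ≫ a) (φ ≫ b)) :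
    (Over S)ᵒᵖ ⥤ Type (u + 1) where
  obj T := ULift.{u + 1} (Quotient (rel T.unop))
  map {T T'} φ := TypeCat.ofHom fun x => ULift.up (Quotient.map (fun a => φ.unop ≫ a)
    (fun a b hab => hcomp φ.unop a b hab) x.down)
  map_id T := by
    ext ⟨x⟩
    induction x using Quotient.inductionOn with
    | _ a => exact congrArg (Quotient.mk _) (Category.id_comp a)
  map_comp φ ψ := by
    ext ⟨x⟩
    induction x using Quotient.inductionOn with
    | _ a => exact congrArg (Quotient.mk _) (Category.assoc _ _ _)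

theorem exists_locally_rel (q : U ⟶ M)
    (hq : QuotSh.IsQuotient Scheme.fppfPrecoverage s t q)
    (rel : ∀ T : Over S, Setoid (T ⟶ U))
    (hcomp : ∀ {T T' : Over S} (φ : T' ⟶ T) (a b : T ⟶ U), (rel T).r a b → (rel T').r (φ ≫ a) (φ ≫ b))
    (hgen : ∀ {T : Over S} (z : T ⟶ R), (rel T).r (z ≫ s) (z ≫ t))
    {T : Over S} (a b : T ⟶ U) (hab : a ≫ q = b ≫ q) :
    ∃ E ∈ QuotSh.J Scheme.fppfPrecoverage S T, ∀ ⦃W : Over S⦄ (f : W ⟶ T), E f →
      (rel W).r (f ≫ a) (f ≫ b) := by
  obtain ⟨w, hiso⟩ := hq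
  let J := QuotSh.J Scheme.fppfPrecoverage S
  let F := preQuotOf rel hcomp
  let π : yoneda.obj U ⋙ uliftFunctor.{u + 1, u} ⟶ F :=
    { app := fun T => TypeCat.ofHom fun a => ULift.up (Quotient.mk _ a.down)
      naturality := fun T T' φ => by ext a; rfl }
  let Φ := (presheafToSheaf J (Type (u + 1))).map π
  have hπ : Functor.whiskerRight (yoneda.map s) uliftFunctor.{u + 1, u} ≫ π =
      Functor.whiskerRight (yoneda.map t) uliftFunctor.{u + 1, u} ≫ π := by
    ext T x
    exact congrArg ULift.up (Quotient.sound (s := rel _) (hgen x.down))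
  have hΦ : QuotSh.repMap Scheme.fppfPrecoverage s ≫ Φ =
      QuotSh.repMap Scheme.fppfPrecoverage t ≫ Φ := by
    change _ ≫ (presheafToSheaf J _).map π = _ ≫ (presheafToSheaf J _).map π
    rw [← Functor.map_comp, ← Functor.map_comp, hπ]
  let ψ := inv (QuotSh.quotDesc Scheme.fppfPrecoverage q w) ≫ coequalizer.desc Φ hΦ
  have hψ : QuotSh.repMap Scheme.fppfPrecoverage q ≫ ψ = Φ := by
    rw [show QuotSh.repMap Scheme.fppfPrecoverage q =
      QuotSh.quotπ Scheme.fppfPrecoverage s t ≫ QuotSh.quotDesc Scheme.fppfPrecoverage q w from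
      (coequalizer.π_desc _ _).symm, Category.assoc, IsIso.hom_inv_id_assoc]
    exact coequalizer.π_desc _ _
  have key : ∀ c : T ⟶ U, (toSheafify J F).app (op T) (π.app (op T) (ULift.up c)) =
      ψ.hom.app (op T) ((toSheafify J (yoneda.obj M ⋙ uliftFunctor.{u + 1, u})).app (op T)
        (ULift.up (c ≫ q))) := by
    intro c
    have e1 := congrArg (fun φ => φ.app (op T) (ULift.up c)) (toSheafify_naturality J π)
    have e2 := congrArg (fun φ => φ.app (op T) (ULift.up c)) (toSheafify_naturality J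
      (Functor.whiskerRight (yoneda.map q) uliftFunctor.{u + 1, u}))
    have e3 := congrArg (fun φ => φ.hom.app (op T)
      ((toSheafify J (yoneda.obj U ⋙ uliftFunctor.{u + 1, u})).app (op T) (ULift.up c))) hψ
    exact e1.trans (e3.symm.trans (congrArg (ψ.hom.app (op T)) e2.symm))
  have heq : (toSheafify J F).app (op T) (π.app (op T) (ULift.up a)) =
      (toSheafify J F).app (op T) (π.app (op T) (ULift.up b)) := by rw [key, key, hab]
  have hmem := Presheaf.equalizerSieve_mem J (toSheafify J F) _ _ heq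
  let E := Presheaf.equalizerSieve (F := F) (π.app (op T) (ULift.up a)) (π.app (op T) (ULift.up b))
  refine ⟨E, hmem, fun W f hf => ?_⟩
  have e : Quotient.mk (rel W) (f ≫ a) = Quotient.mk (rel W) (f ≫ b) := congrArg ULift.down hf
  exact Quotient.exact e

/-- Morphisms of schemes agreeing on an fppf covering sieve agree. -/
theorem eq_of_covering {T : Over S} {E : Sieve T} (hE : E ∈ QuotSh.J Scheme.fppfPrecoverage S T)
    {Z : Scheme.{u}} (a b : T.left ⟶ Z)
    (h : ∀ ⦃W : Over S⦄ (f : W ⟶ T), E f → f.left ≫ a = f.left ≫ b) : a = b := by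
  rw [GrothendieckTopology.mem_over_iff] at hE
  refine (GrothendieckTopology.Subcanonical.isSheaf_of_isRepresentable
    (J := Scheme.fppfTopology) (yoneda.obj Z) _ hE).isSeparatedFor.ext fun W f hf => ?_
  obtain ⟨W', g, k, hg, hk⟩ := hf
  change f ≫ a = f ≫ b
  exact (congrArg (· ≫ a) hk).trans ((Category.assoc _ _ _).trans ((congrArg (k ≫ ·) (h g hg)).trans
    ((Category.assoc _ _ _).symm.trans (congrArg (· ≫ b) hk).symm)))

/-- A covering sieve meets every point. -/
theorem exists_point_of_covering {T : Over S} {E : Sieve T}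
    (hE : E ∈ QuotSh.J Scheme.fppfPrecoverage S T) (x : T.left) :
    ∃ (W : Over S) (f : W ⟶ T) (w : W.left), E f ∧ f.left w = x := by
  rw [GrothendieckTopology.mem_over_iff] at hE
  let P : MorphismProperty Scheme.{u} := @Flat ⊓ @LocallyOfFinitePresentation
  have : P.IsMultiplicative :=
    { id_mem := fun _ => ⟨inferInstance, inferInstance⟩
      comp_mem := fun f g ⟨_, _⟩ ⟨_, _⟩ => ⟨inferInstance, inferInstance⟩ }
  have : P.IsStableUnderBaseChange := by
    refine ⟨fun {X Y Y' S} _ _ _ _ h hf => ⟨?_, ?_⟩⟩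
    · exact MorphismProperty.of_isPullback h hf.1
    · exact MorphismProperty.of_isPullback h hf.2
  obtain ⟨𝒰, hle⟩ := (Scheme.mem_grothendieckTopology_iff (P := P)).1 hE
  obtain ⟨i, z, hz⟩ := 𝒰.exists_eq x
  obtain ⟨W, g, k, hg, hk⟩ := hle _ _ ⟨i⟩
  exact ⟨W, g, k z, hg, by rw [← hz, hk]; rfl⟩

end Groth.Agent.QuotShEff
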